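import Cfsg.Agent.H755.Sd.Par

/-!
# S4612, row of `PSL_n`: the block diagonal part of a block triangular matrix (helper528)

* `bdN b : PB F b ⊓ N →* PB F b ⊓ N` (`N` the kernel of the determinant) and its kernel, an `r`-group;
* `not_dvd_index` : the index of the centraliser in `PB F b ⊓ N` of a block scalar matrix is a power of `r`.
-/

set_option autoImplicit false

namespace Cfsg.Agent.H528.PQL

open Matrix Subgroup Cfsg.Agent.H755.Sd.Par Cfsg.Agent.H755.Sd.Syl
open scoped MatrixGroups

variable {F : Type*} [Field F] {n : ℕ} {b : Fin n → Fin n}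

/-- the block diagonal part -/
def bd (b : Fin n → Fin n) (A : Matrix (Fin n) (Fin n) F) : Matrix (Fin n) (Fin n) F :=
  Matrix.of fun i j => if b i = b j then A i j else 0

theorem bd_apply (A : Matrix (Fin n) (Fin n) F) (i j : Fin n) : bd b A i j = if b i = b j then A i j else 0 := rfl

theorem bd_one : bd b (1 : Matrix (Fin n) (Fin n) F) = 1 := by
  ext i j
  rw [bd_apply]
  by_cases h : i = j
  · subst h; rw [if_pos rfl]
  · rw [Matrix.one_apply_ne h, ite_self]

theorem bd_mul {A B : Matrix (Fin n) (Fin n) F} (hA : A.BlockTriangular b) (hB : B.BlockTriangular b) :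
    bd b (A * B) = bd b A * bd b B := by
  ext i j
  rw [bd_apply, Matrix.mul_apply, Matrix.mul_apply]
  by_cases h : b i = b j
  · rw [if_pos h]
    refine Finset.sum_congr rfl fun l _ => ?_
    rw [bd_apply, bd_apply]
    by_cases h1 : b i = b l
    · rw [if_pos h1, if_pos (h1 ▸ h)]
    · rw [if_neg h1, zero_mul]
      rcases lt_or_gt_of_ne h1 with h2 | h2
      · rw [hB (show b j < b l by rw [← h]; exact h2), mul_zero]
      · rw [hA h2, zero_mul]
  · rw [if_neg h]
    symm
    refine Finset.sum_eq_zero fun l _ => ?_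
    rw [bd_apply, bd_apply]
    by_cases h1 : b i = b l
    · rw [if_neg (fun h2 => h (h1.trans h2)), mul_zero]
    · rw [if_neg h1, zero_mul]

theorem bd_tri (A : Matrix (Fin n) (Fin n) F) : (bd b A).BlockTriangular b := fun i j h => by
  rw [bd_apply, if_neg h.ne']

theorem bd_square (A : Matrix (Fin n) (Fin n) F) (k : Fin n) :
    (bd b A).toSquareBlock b k = A.toSquareBlock b k := by
  ext i j
  show bd b A i j = A i j
  rw [bd_apply, if_pos (i.2.trans j.2.symm)]

theorem det_bd {A : Matrix (Fin n) (Fin n) F} (hA : A.BlockTriangular b) : (bd b A).det = A.det := by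
  rw [(bd_tri A).det_fintype, hA.det_fintype]
  exact Finset.prod_congr rfl fun k _ => by rw [bd_square]

/-- the kernel of the determinant -/
abbrev N (F : Type*) [Field F] (n : ℕ) : Subgroup (GL (Fin n) F) :=
  (Matrix.GeneralLinearGroup.det : GL (Fin n) F →* Fˣ).ker

theorem mem_N {g : GL (Fin n) F} : g ∈ N F n ↔ (g : Matrix (Fin n) (Fin n) F).det = 1 := by
  rw [MonoidHom.mem_ker, Units.ext_iff]
  rfl

/-- the block diagonal part, for invertible matrices -/
def bdG (b : Fin n → Fin n) : PB F b →* GL (Fin n) F where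
  toFun g := ⟨bd b ((g : GL (Fin n) F) : Matrix (Fin n) (Fin n) F),
    bd b (((g⁻¹ : PB F b) : GL (Fin n) F) : Matrix (Fin n) (Fin n) F), by
      rw [← bd_mul g.2 (g⁻¹).2, ← Units.val_mul, ← Subgroup.coe_mul, mul_inv_cancel, Subgroup.coe_one, Units.val_one,
        bd_one], by
      rw [← bd_mul (g⁻¹).2 g.2, ← Units.val_mul, ← Subgroup.coe_mul, inv_mul_cancel, Subgroup.coe_one, Units.val_one,
        bd_one]⟩
  map_one' := Units.ext bd_one
  map_mul' x y := Units.ext (bd_mul x.2 y.2)

theorem coe_bdG (g : PB F b) : ((bdG b g : GL (Fin n) F) : Matrix (Fin n) (Fin n) F) =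
    bd b ((g : GL (Fin n) F) : Matrix (Fin n) (Fin n) F) := rfl

/-- the block diagonal part on `PB ⊓ N` -/
def bdN (b : Fin n → Fin n) : ↥(PB F b ⊓ N F n) →* ↥(PB F b ⊓ N F n) :=
  ((bdG b).comp (Subgroup.inclusion inf_le_left)).codRestrict _ fun g => by
    refine ⟨bd_tri _, mem_N.2 ?_⟩
    rw [MonoidHom.comp_apply, coe_bdG, det_bd]
    · exact mem_N.1 g.2.2
    · exact g.2.1

theorem coe_bdN (g : ↥(PB F b ⊓ N F n)) : (((bdN b g : ↥(PB F b ⊓ N F n)) : GL (Fin n) F) : Matrix (Fin n) (Fin n) F) =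
    bd b ((g : GL (Fin n) F) : Matrix (Fin n) (Fin n) F) := rfl

/-- strictly block triangular matrices are nilpotent -/
theorem pow_apply_eq_zero {X : Matrix (Fin n) (Fin n) F} (hX : ∀ i j, ¬ b i < b j → X i j = 0) (k : ℕ) (i j : Fin n)
    (h : ¬ (b i : ℕ) + k ≤ b j) : (X ^ k) i j = 0 := by
  induction k generalizing i j with
  | zero =>
    rw [pow_zero, Matrix.one_apply_ne]
    rintro rfl
    exact h (by simp)
  | succ k ih =>
    rw [pow_succ, Matrix.mul_apply]
    refine Finset.sum_eq_zero fun l _ => ?_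
    by_cases h1 : (b i : ℕ) + k ≤ b l
    · rw [hX l j, mul_zero]
      intro h2
      have : (b l : ℕ) < b j := h2
      omega
    · rw [ih i l h1, zero_mul]

theorem pow_eq_zero_of_strict {X : Matrix (Fin n) (Fin n) F} (hX : ∀ i j, ¬ b i < b j → X i j = 0) {k : ℕ}
    (hk : n ≤ k) : X ^ k = 0 := by
  ext i j
  refine pow_apply_eq_zero hX k i j ?_
  have := (b j).2
  omega

/-- the kernel of the block diagonal part is an `r`-group -/
theorem isPGroup_ker {r : ℕ} [hr : Fact r.Prime] [CharP F r] : IsPGroup r (bdN (F := F) b).ker := by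
  rintro ⟨g, hg⟩
  rw [MonoidHom.mem_ker] at hg
  have h1 : bd b ((g : GL (Fin n) F) : Matrix (Fin n) (Fin n) F) = 1 := by
    rw [← coe_bdN, hg]; rfl
  set X : Matrix (Fin n) (Fin n) F := ((g : GL (Fin n) F) : Matrix (Fin n) (Fin n) F) - 1 with hXdef
  have hX : ∀ i j, ¬ b i < b j → X i j = 0 := by
    intro i j hij
    rw [hXdef, Matrix.sub_apply]
    rcases (not_lt.1 hij).lt_or_eq with h2 | h2
    · rw [g.2.1 h2, Matrix.one_apply_ne (by rintro rfl; exact lt_irrefl _ h2), sub_zero]
    · have h3 := congrFun (congrFun h1 i) j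
      rw [bd_apply, if_pos h2.symm] at h3
      rw [h3, sub_self]
  obtain ⟨k, hk⟩ : ∃ k, n ≤ r ^ k := ⟨n, (Nat.lt_pow_self hr.out.one_lt).le⟩
  refine ⟨k, ?_⟩
  apply Subtype.ext
  apply Subtype.ext
  apply Units.ext
  show ((g : GL (Fin n) F) : Matrix (Fin n) (Fin n) F) ^ r ^ k = 1
  have h4 : ((g : GL (Fin n) F) : Matrix (Fin n) (Fin n) F) = X + 1 := by rw [hXdef, sub_add_cancel]
  rw [h4]
  rcases isEmpty_or_nonempty (Fin n) with hn | hn
  · exact Subsingleton.elim _ _
  · have : CharP (Matrix (Fin n) (Fin n) F) r := Matrix.charP r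
    rw [add_pow_char_pow_of_commute r k (Commute.one_right X), one_pow, pow_eq_zero_of_strict hX hk, zero_add]

/-- the index of the centraliser of an element commuting with the block diagonal matrices -/
theorem not_dvd_index [Finite F] {p r : ℕ} (hp : p.Prime) [hr : Fact r.Prime] [CharP F r] (hpr : p ≠ r)
    (z : ↥(PB F b ⊓ N F n)) (hz : ∀ h : ↥(PB F b ⊓ N F n), z * bdN b h = bdN b h * z) :
    ¬ p ∣ (Subgroup.centralizer ({z} : Set ↥(PB F b ⊓ N F n))).index := by
  intro hd
  have hle : (bdN (F := F) b).range ≤ Subgroup.centralizer ({z} : Set ↥(PB F b ⊓ N F n)) := by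
    rintro _ ⟨h, rfl⟩
    rw [Subgroup.mem_centralizer_singleton_iff]
    exact (hz h).symm
  have h1 := hd.trans (Subgroup.index_dvd_of_le hle)
  have h2 : (bdN (F := F) b).range.index = Nat.card (bdN (F := F) b).ker := by
    have h3 := Subgroup.card_mul_index (bdN (F := F) b).range
    have h4 := Subgroup.card_mul_index (bdN (F := F) b).ker
    rw [Subgroup.index_ker] at h4
    have h5 : 0 < Nat.card (bdN (F := F) b).range := Nat.card_pos
    rw [← h4, mul_comm] at h3
    exact Nat.eq_of_mul_eq_mul_right h5 h3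
  obtain ⟨k, hk⟩ := (IsPGroup.iff_card (p := r)).1 (isPGroup_ker (F := F) (b := b))
  rw [h2, hk] at h1
  exact hpr ((Nat.prime_dvd_prime_iff_eq hp hr.out).1 (hp.dvd_of_dvd_pow h1))

end Cfsg.Agent.H528.PQL
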